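import Mathlib

/-!
# Morphisms descend along surjective schematically dominant maps of affine schemes
-/

set_option autoImplicit false

universe u

open CategoryTheory Limits AlgebraicGeometry TopologicalSpace Opposite

namespace Groth.Agent.QuillenPts

/-- surjective, schematically dominant, quasi-compact maps can be cancelled -/
theorem cancel_of_surjective {W W' T : Scheme.{u}} (q : W' ⟶ W) [IsSchemeTheoreticallyDominant q] [QuasiCompact q]
    [Surjective q] {f g : W ⟶ T} (h : q ≫ f = q ≫ g) : f = g := by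
  have hb : f.base = g.base := by
    ext x
    obtain ⟨y, rfl⟩ := q.surjective x
    exact congr($(h) y)
  refine Scheme.Hom.ext hb fun U => ?_
  have e : g ⁻¹ᵁ U = f ⁻¹ᵁ U := by rw [Opens.ext_iff]; simp [Scheme.Hom.coe_preimage, hb]
  ext s
  apply q.app_injective (g ⁻¹ᵁ U)
  have h2 : (q ≫ f).appLE U (q ⁻¹ᵁ g ⁻¹ᵁ U) (by rw [h]; rfl) = (q ≫ g).appLE U (q ⁻¹ᵁ g ⁻¹ᵁ U) le_rfl := by
    congr 1
  rw [← Scheme.Hom.appLE_comp_appLE q f U (g ⁻¹ᵁ U) _ e.le le_rfl,
    ← Scheme.Hom.appLE_comp_appLE q g U (g ⁻¹ᵁ U) _ le_rfl le_rfl] at h2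
  have h3 := ConcreteCategory.congr_hom h2 s
  simp only [Scheme.Hom.appLE] at h3
  simp at h3 ⊢
  exact h3

variable {C P B : Type u} [CommRing C] [CommRing P] [CommRing B]

theorem std_of_injective (ι : C →+* P) (hι : Function.Injective ι) :
    IsSchemeTheoreticallyDominant (Spec.map (CommRingCat.ofHom ι)) := by
  refine ⟨?_⟩
  apply Scheme.IdealSheafData.ext_of_isAffine
  rw [Scheme.Hom.ker_apply, Scheme.IdealSheafData.ideal_bot, Pi.bot_apply, ← RingHom.injective_iff_ker_eq_bot]
  haveI := RingHom.toMorphismProperty_respectsIso_iff.mp RingHom.injective_respectsIso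
  refine (MorphismProperty.arrow_mk_iso_iff (RingHom.toMorphismProperty (fun {R S} _ _ f => Function.Injective f))
    (arrowIsoΓSpecOfIsAffine (CommRingCat.ofHom ι))).mp hι

/-- the localised inclusion -/
noncomputable def awayMap (f : C →+* P) (y : C) : Localization.Away y →+* Localization.Away (f y) :=
  IsLocalization.Away.map (Localization.Away y) (Localization.Away (f y)) f y

theorem awayMap_algebraMap (f : C →+* P) (y c : C) :
    awayMap f y (algebraMap C _ c) = algebraMap P _ (f c) := by
  unfold awayMap IsLocalization.Away.map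
  exact IsLocalization.map_eq _ c

variable (ι : C →+* P) (π₁ π₂ : P →+* B) (hι : Function.Injective ι)
  (heq : ∀ p : P, π₁ p = π₂ p ↔ p ∈ Set.range ι)

include hι heq in
/-- localisations of equalisers -/
theorem exists_lift_away (y : C) {O : Type u} [CommRing O] (φ : O →+* Localization.Away (ι y))
    (hφ : ∀ o : O, ∀ (B' : Type u) [CommRing B'] [Algebra B B'] [IsLocalization.Away (π₁ (ι y)) B']
      (w₁ w₂ : Localization.Away (ι y) →+* B'), (∀ p, w₁ (algebraMap P _ p) = algebraMap B B' (π₁ p)) →
      (∀ p, w₂ (algebraMap P _ p) = algebraMap B B' (π₂ p)) → w₁ (φ o) = w₂ (φ o)) :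
    ∃ ψ : O →+* Localization.Away y,
      (awayMap ι y).comp ψ = φ := by
  let μ := awayMap ι y
  have hμ : Function.Injective μ := by
    rw [injective_iff_map_eq_zero]
    intro z hz
    obtain ⟨n, c, hc⟩ := IsLocalization.Away.surj y z
    have h0 : algebraMap P (Localization.Away (ι y)) (ι c) = 0 := by
      have := congrArg μ hc
      rw [map_mul, hz, zero_mul] at this
      rw [← awayMap_algebraMap]
      exact this.symm
    obtain ⟨⟨_, m, rfl⟩, hm⟩ := (IsLocalization.map_eq_zero_iff (Submonoid.powers (ι y)) _ _).1 h0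
    have h1 : y ^ m * c = 0 := hι (by simpa using hm)
    have hu : IsUnit (algebraMap C (Localization.Away y) y ^ n) :=
      (IsLocalization.Away.algebraMap_isUnit y).pow n
    refine hu.mul_left_eq_zero.1 ?_
    rw [hc]
    exact (IsLocalization.map_eq_zero_iff (Submonoid.powers y) _ _).2 ⟨⟨_, m, rfl⟩, h1⟩
  have hy : π₁ (ι y) = π₂ (ι y) := (heq _).2 ⟨y, rfl⟩
  suffices h : ∀ o, φ o ∈ μ.range by
    exact ⟨((RingEquiv.ofBijective μ.rangeRestrict ⟨fun a b h => hμ (congrArg Subtype.val h), μ.rangeRestrict_surjective⟩).symm :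
      μ.range →+* Localization.Away y).comp (φ.codRestrict μ.range h),
      RingHom.ext fun o => congrArg Subtype.val
        ((RingEquiv.ofBijective μ.rangeRestrict ⟨fun a b h => hμ (congrArg Subtype.val h), μ.rangeRestrict_surjective⟩).apply_symm_apply
          ⟨φ o, h o⟩)⟩
  intro o
  obtain ⟨n, p, hp⟩ := IsLocalization.Away.surj (ι y) (φ o)
  let B' := Localization.Away (π₁ (ι y))
  let w₁ : Localization.Away (ι y) →+* B' := IsLocalization.Away.map _ _ π₁ (ι y)
  have hu2 : IsUnit ((algebraMap B B').comp π₂ (ι y)) := by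
    show IsUnit (algebraMap B B' (π₂ (ι y)))
    rw [← hy]; exact IsLocalization.Away.algebraMap_isUnit _
  let w₂ : Localization.Away (ι y) →+* B' := IsLocalization.Away.lift (ι y) hu2
  have hw₁ : ∀ q, w₁ (algebraMap P _ q) = algebraMap B B' (π₁ q) := fun q => IsLocalization.map_eq _ q
  have hw₂ : ∀ q, w₂ (algebraMap P _ q) = algebraMap B B' (π₂ q) := fun q => IsLocalization.Away.lift_eq _ hu2 q
  have h := hφ o B' w₁ w₂ hw₁ hw₂
  have e : algebraMap B B' (π₁ p) = algebraMap B B' (π₂ p) := by
    rw [← hw₁, ← hw₂, ← hp, map_mul, map_mul, map_pow, map_pow, hw₁, hw₂, h]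
    exact congrArg (fun t => w₂ (φ o) * t ^ n) (congrArg (algebraMap B B') hy)
  obtain ⟨⟨_, m, rfl⟩, hm⟩ := (IsLocalization.eq_iff_exists (Submonoid.powers (π₁ (ι y))) B').1 e
  obtain ⟨c, hc⟩ := (heq (ι y ^ m * p)).1 (by simp only [map_mul, map_pow, ← hy]; exact hm)
  let z : Localization.Away y := IsLocalization.mk' _ c (⟨y ^ (n + m), n + m, rfl⟩ : Submonoid.powers y)
  refine ⟨z, ?_⟩
  have hz : z * algebraMap C _ (y ^ (n + m)) = algebraMap C _ c := IsLocalization.mk'_spec _ _ _
  have hz' := congrArg μ hz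
  have hμa : ∀ a : C, μ (algebraMap C _ a) = algebraMap P _ (ι a) := fun a => awayMap_algebraMap ι y a
  rw [map_mul, hμa, hμa, hc, map_mul, ← hp, map_pow, map_pow, map_pow, pow_add] at hz'
  refine ((IsLocalization.Away.algebraMap_isUnit (ι y)).pow (n + m)).mul_left_inj.1 ?_
  rw [pow_add, hz']
  ring

include hι heq in
/-- descent of morphisms -/
theorem exists_descend {G : Scheme.{u}} [Surjective (Spec.map (CommRingCat.ofHom ι))]
    (h : Spec (CommRingCat.of P) ⟶ G)
    (hh : Spec.map (CommRingCat.ofHom π₁) ≫ h = Spec.map (CommRingCat.ofHom π₂) ≫ h)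
    (hloc : ∀ z : PrimeSpectrum C, ∃ (y : C) (V : G.Opens), y ∉ z.asIdeal ∧ IsAffineOpen V ∧
      ∀ w : PrimeSpectrum P, ι y ∉ w.asIdeal → h w ∈ V) :
    ∃ h' : Spec (CommRingCat.of C) ⟶ G, Spec.map (CommRingCat.ofHom ι) ≫ h' = h := by
  haveI := std_of_injective ι hι
  choose y V hy hV hyV using hloc
  have piece : ∀ z, ∃ g : Spec (CommRingCat.of (Localization.Away (y z))) ⟶ G,
      Spec.map (CommRingCat.ofHom (awayMap ι (y z))) ≫ g =
        Spec.map (CommRingCat.ofHom (algebraMap P (Localization.Away (ι (y z))))) ≫ h := by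
    intro z
    let j := Spec.map (CommRingCat.ofHom (algebraMap P (Localization.Away (ι (y z)))))
    have hj : Set.range (j ≫ h) ⊆ Set.range (V z).ι := by
      rw [Scheme.Opens.range_ι]
      rintro _ ⟨w, rfl⟩
      refine hyV z (j w) fun hmem => w.isPrime.ne_top ?_
      exact Ideal.eq_top_of_isUnit_mem _ hmem (IsLocalization.Away.algebraMap_isUnit _)
    let k : Spec (CommRingCat.of (Localization.Away (ι (y z)))) ⟶ V z := IsOpenImmersion.lift (V z).ι (j ≫ h) hj
    haveI : IsAffine (V z) := hV z
    obtain ⟨φ, hφ⟩ := Spec.map_surjective (k ≫ (hV z).isoSpec.hom)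
    obtain ⟨ψ, hψ⟩ := exists_lift_away ι π₁ π₂ hι heq (y z) φ.hom (fun o B' _ _ _ w₁ w₂ h₁ h₂ => by
      suffices e : φ ≫ CommRingCat.ofHom w₁ = φ ≫ CommRingCat.ofHom w₂ from ConcreteCategory.congr_hom e o
      apply Spec.map_injective
      rw [Spec.map_comp, Spec.map_comp, hφ, ← Category.assoc, ← Category.assoc, cancel_mono,
        ← cancel_mono (V z).ι, Category.assoc, Category.assoc, IsOpenImmersion.lift_fac, ← Category.assoc,
        ← Category.assoc, ← Spec.map_comp, ← Spec.map_comp,
        show CommRingCat.ofHom (algebraMap P _) ≫ CommRingCat.ofHom w₁ =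
          CommRingCat.ofHom π₁ ≫ CommRingCat.ofHom (algebraMap B B') from CommRingCat.hom_ext (RingHom.ext h₁),
        show CommRingCat.ofHom (algebraMap P _) ≫ CommRingCat.ofHom w₂ =
          CommRingCat.ofHom π₂ ≫ CommRingCat.ofHom (algebraMap B B') from CommRingCat.hom_ext (RingHom.ext h₂),
        Spec.map_comp, Spec.map_comp, Category.assoc, Category.assoc, hh])
    refine ⟨Spec.map (CommRingCat.ofHom ψ) ≫ (hV z).isoSpec.inv ≫ (V z).ι, ?_⟩
    rw [← Category.assoc, ← Spec.map_comp,
      show CommRingCat.ofHom ψ ≫ CommRingCat.ofHom (awayMap ι (y z)) = φ from CommRingCat.hom_ext hψ, hφ]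
    simp [k, j]
  choose g hg using piece
  have hspan : Ideal.span (Set.range y) = ⊤ := by
    by_contra hne
    obtain ⟨m, hm, hle⟩ := Ideal.exists_le_maximal _ hne
    exact hy ⟨m, hm.isPrime⟩ (hle (Ideal.subset_span ⟨_, rfl⟩))
  let 𝒰 := (Scheme.affineOpenCoverOfSpanRangeEqTop (R := CommRingCat.of C) y hspan).openCover
  let q := Spec.map (CommRingCat.ofHom ι)
  have sq : ∀ z, IsPullback (Spec.map (CommRingCat.ofHom (algebraMap P (Localization.Away (ι (y z))))))
      (Spec.map (CommRingCat.ofHom (awayMap ι (y z))))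
      q (Spec.map (CommRingCat.ofHom (algebraMap C (Localization.Away (y z))))) := by
    intro z
    letI := ι.toAlgebra
    letI : Algebra (Localization.Away (y z)) (Localization.Away (ι (y z))) :=
      (awayMap ι (y z)).toAlgebra
    haveI : IsScalarTower C (Localization.Away (y z)) (Localization.Away (ι (y z))) :=
      IsScalarTower.of_algebraMap_eq fun c => by
        rw [IsScalarTower.algebraMap_apply C P (Localization.Away (ι (y z))) c]
        exact (awayMap_algebraMap ι (y z) c).symm
    haveI : IsLocalization (Algebra.algebraMapSubmonoid P (Submonoid.powers (y z))) (Localization.Away (ι (y z))) := by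
      rw [Algebra.algebraMapSubmonoid_powers]; infer_instance
    haveI : Algebra.IsPushout C P (Localization.Away (y z)) (Localization.Away (ι (y z))) :=
      Algebra.isPushout_of_isLocalization (Submonoid.powers (y z)) (Localization.Away (y z)) P _
    exact isPullback_SpecMap_of_isPushout _ _ _ _ (CommRingCat.isPushout_of_isPushout C P _ _)
  refine ⟨𝒰.glueMorphisms g fun z z' => ?_, ?_⟩
  · let W := pullback (𝒰.f z) (𝒰.f z')
    let w : W ⟶ Spec (CommRingCat.of C) := pullback.fst _ _ ≫ 𝒰.f z
    haveI : IsSchemeTheoreticallyDominant (pullback.snd q w) := inferInstance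
    refine cancel_of_surjective (pullback.snd q w) ?_
    have hz := (sq z).lift (pullback.fst q w) (pullback.snd q w ≫ pullback.fst _ _)
      (by rw [Category.assoc]; exact pullback.condition)
    let a := (sq z).lift (pullback.fst q w) (pullback.snd q w ≫ pullback.fst _ _)
      (by rw [Category.assoc]; exact pullback.condition)
    let a' := (sq z').lift (pullback.fst q w) (pullback.snd q w ≫ pullback.snd _ _)
      (by rw [Category.assoc]; exact pullback.condition.trans (congrArg (pullback.snd q w ≫ ·) pullback.condition))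
    have e₁ : pullback.snd q w ≫ pullback.fst _ _ ≫ g z = pullback.fst q w ≫ h := by
      rw [← Category.assoc]
      erw [← (sq z).lift_snd (pullback.fst q w) (pullback.snd q w ≫ pullback.fst _ _) (by rw [Category.assoc]; exact pullback.condition),
        Category.assoc, hg z]
      rw [← Category.assoc, (sq z).lift_fst]
    have e₂ : pullback.snd q w ≫ pullback.snd _ _ ≫ g z' = pullback.fst q w ≫ h := by
      rw [← Category.assoc]
      erw [← (sq z').lift_snd (pullback.fst q w) (pullback.snd q w ≫ pullback.snd _ _)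
        (by rw [Category.assoc]; exact pullback.condition.trans (congrArg (pullback.snd q w ≫ ·) pullback.condition)),
        Category.assoc, hg z']
      rw [← Category.assoc, (sq z').lift_fst]
    exact e₁.trans e₂.symm
  · refine Scheme.Cover.hom_ext (𝒰.pullback₁ q) _ _ fun z => ?_
    show pullback.fst q (𝒰.f z) ≫ q ≫ _ = pullback.fst q (𝒰.f z) ≫ h
    rw [pullback.condition_assoc, Scheme.Cover.ι_glueMorphisms]
    erw [← (sq z).isoPullback_inv_snd, Category.assoc, hg z, ← Category.assoc, (sq z).isoPullback_inv_fst]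
    rfl

end Groth.Agent.QuillenPts
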