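import Groth.Agent.QuillenPts.Descent
import Mathlib

/-!
# Quillen's lemma for points of schemes locally of finite presentation
-/

set_option autoImplicit false

universe u

open CategoryTheory Limits AlgebraicGeometry TopologicalSpace Opposite Polynomial

namespace Groth.Agent.QuillenPts

variable (A B : Type u) [CommRing A] [CommRing B] [Algebra A B] (r : A) [IsLocalization.Away r B]

/-- substitute `X ↦ c X` -/
noncomputable def scale {K : Type u} [CommRing K] (c : K) : K[X] →+* K[X] :=
  eval₂RingHom (C : K →+* K[X]) (C c * X)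

theorem scale_C {K : Type u} [CommRing K] (c a : K) : scale c (C a) = C a := by simp [scale]

theorem scale_X {K : Type u} [CommRing K] (c : K) : scale c X = C c * X := by simp [scale]

theorem coeff_scale {K : Type u} [CommRing K] (c : K) (p : K[X]) (k : ℕ) :
    (scale c p).coeff k = c ^ k * p.coeff k := by
  induction p using Polynomial.induction_on' with
  | add p q hp hq => simp [hp, hq, mul_add]
  | monomial n a =>
    rw [← C_mul_X_pow_eq_monomial, map_mul, map_pow, scale_C, scale_X, mul_pow, ← C_pow, ← mul_assoc,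
      ← C_mul, coeff_C_mul, coeff_C_mul, coeff_X_pow]
    split_ifs with h
    · subst h; ring
    · simp

/-- first map -/
noncomputable def pi1 : A × B[X] →+* B := (algebraMap A B).comp (RingHom.fst A B[X])

/-- second map -/
noncomputable def pi2 : A × B[X] →+* B := (evalRingHom (0 : B)).comp (RingHom.snd A B[X])

/-- the glued ring -/
abbrev Glue : Type u := (pi1 A B).eqLocus (pi2 A B)

/-- its inclusion -/
noncomputable def incl : Glue A B →+* A × B[X] := ((pi1 A B).eqLocus (pi2 A B)).subtype

theorem mem_glue (x : A × B[X]) : x ∈ (pi1 A B).eqLocus (pi2 A B) ↔ algebraMap A B x.1 = x.2.eval 0 := Iff.rfl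

theorem glue_cond (z : Glue A B) : algebraMap A B (incl A B z).1 = (incl A B z).2.eval 0 := z.2

/-- elements of the glued ring -/
noncomputable def gmk (a : A) (q : B[X]) (h : algebraMap A B a = q.eval 0) : Glue A B := ⟨(a, q), h⟩

/-- the element `r` -/
noncomputable def rho : Glue A B := gmk A B r (C (algebraMap A B r)) (by simp)

theorem incl_injective : Function.Injective (incl A B) := Subtype.val_injective

theorem incl_range (p : A × B[X]) : pi1 A B p = pi2 A B p ↔ p ∈ Set.range (incl A B) :=
  ⟨fun h => ⟨⟨p, h⟩, rfl⟩, by rintro ⟨z, rfl⟩; exact z.2⟩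

/-- the part away from the divisor -/
theorem exists_comap_snd (z : PrimeSpectrum (Glue A B)) (hz : rho A B r ∉ z.asIdeal) :
    ∃ w : PrimeSpectrum B[X], PrimeSpectrum.comap ((RingHom.snd A B[X]).comp (incl A B)) w = z := by
  letI : Algebra (Glue A B) B[X] := ((RingHom.snd A B[X]).comp (incl A B)).toAlgebra
  haveI : IsLocalization.Away (rho A B r) B[X] := by
    refine IsLocalization.Away.mk _ ?_ (fun q => ?_) (fun x y h => ?_)
    · show IsUnit (C (algebraMap A B r))
      exact (IsLocalization.Away.algebraMap_isUnit r).map C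
    · obtain ⟨m, a, ha⟩ := IsLocalization.Away.surj r (q.eval 0)
      refine ⟨m, gmk A B a (q * C (algebraMap A B r) ^ m) ?_, ?_⟩
      · simp [← ha]
      · rfl
    · have h' : (incl A B x).2 = (incl A B y).2 := h
      have e : algebraMap A B (incl A B x).1 = algebraMap A B (incl A B y).1 := by
        rw [glue_cond, glue_cond, h']
      obtain ⟨n, hn⟩ := IsLocalization.Away.exists_of_eq r e
      refine ⟨n, incl_injective A B ?_⟩
      refine Prod.ext ?_ ?_
      · simpa [rho, gmk, incl] using hn
      · simp [h']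
  let e := IsLocalization.orderIsoOfPrime (Submonoid.powers (rho A B r)) B[X]
  have hd : Disjoint (Submonoid.powers (rho A B r) : Set (Glue A B)) z.asIdeal := by
    rw [Set.disjoint_left]
    rintro _ ⟨n, rfl⟩ hn
    exact hz (z.isPrime.mem_of_pow_mem n hn)
  refine ⟨⟨(e.symm ⟨z.asIdeal, z.isPrime, hd⟩).1, (e.symm ⟨z.asIdeal, z.isPrime, hd⟩).2⟩, PrimeSpectrum.ext ?_⟩
  exact congrArg Subtype.val (e.apply_symm_apply ⟨z.asIdeal, z.isPrime, hd⟩)

/-- the part on the divisor -/
theorem exists_comap_fst (z : PrimeSpectrum (Glue A B)) (hz : rho A B r ∈ z.asIdeal) :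
    ∃ p : PrimeSpectrum A, PrimeSpectrum.comap ((RingHom.fst A B[X]).comp (incl A B)) p = z := by
  let φ := (RingHom.fst A B[X]).comp (incl A B)
  have hφ : Function.Surjective φ := fun a => ⟨gmk A B a (C (algebraMap A B a)) (by simp), rfl⟩
  have hk : RingHom.ker φ ≤ z.asIdeal := by
    intro x hx
    obtain ⟨u, hu⟩ := IsLocalization.Away.algebraMap_isUnit (S := B) r
    have hx1 : (incl A B x).1 = 0 := hx
    have hx2 : (incl A B x).2.eval 0 = 0 := by rw [← glue_cond, hx1, map_zero]
    have e : x = rho A B r * gmk A B 0 (C ((u⁻¹ : Bˣ) : B) * (incl A B x).2) (by simp [hx2]) := by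
      apply incl_injective A B
      rw [map_mul]
      refine Prod.ext ?_ ?_
      · simpa [gmk, rho, incl] using hx1
      · show (incl A B x).2 = C (algebraMap A B r) * (C ((u⁻¹ : Bˣ) : B) * (incl A B x).2)
        rw [← mul_assoc, ← C_mul, ← hu, Units.mul_inv, C_1, one_mul]
    rw [e]
    exact z.asIdeal.mul_mem_right _ hz
  refine ⟨⟨z.asIdeal.map φ, Ideal.map_isPrime_of_surjective hφ hk⟩, PrimeSpectrum.ext ?_⟩
  show (z.asIdeal.map φ).comap φ = z.asIdeal
  rw [Ideal.comap_map_of_surjective φ hφ, sup_eq_left]
  exact hk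

theorem surjective_incl [IsLocalization.Away r B] : Surjective (Spec.map (CommRingCat.ofHom (incl A B))) := by
  refine ⟨fun z => ?_⟩
  by_cases hz : rho A B r ∈ z.asIdeal
  · obtain ⟨p, rfl⟩ := exists_comap_fst A B r z hz
    exact ⟨PrimeSpectrum.comap (RingHom.fst A B[X]) p, rfl⟩
  · obtain ⟨w, rfl⟩ := exists_comap_snd A B r z hz
    exact ⟨PrimeSpectrum.comap (RingHom.snd A B[X]) w, rfl⟩

variable {G : Scheme.{u}} (e : Spec (CommRingCat.of A) ⟶ G) (h : Spec (CommRingCat.of B[X]) ⟶ G)
  (heh : Spec.map (CommRingCat.ofHom (evalRingHom (0 : B))) ≫ h = Spec.map (CommRingCat.ofHom (algebraMap A B)) ≫ e)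

include r heh in
/-- the two pieces glue -/
theorem exists_glued : ∃ g : Spec (CommRingCat.of (Glue A B)) ⟶ G,
    Spec.map (CommRingCat.ofHom ((RingHom.fst A B[X]).comp (incl A B))) ≫ g = e ∧
      Spec.map (CommRingCat.ofHom ((RingHom.snd A B[X]).comp (incl A B))) ≫ g = h := by
  haveI := surjective_incl A B r
  let hp : Spec (CommRingCat.of (A × B[X])) ⟶ G := inv (coprodSpec A B[X]) ≫ coprod.desc e h
  have h1 : Spec.map (CommRingCat.ofHom (RingHom.fst A B[X])) ≫ hp = e := by
    show _ ≫ inv _ ≫ _ = _
    erw [← coprodSpec_inl, Category.assoc, IsIso.hom_inv_id_assoc, coprod.inl_desc]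
  have h2 : Spec.map (CommRingCat.ofHom (RingHom.snd A B[X])) ≫ hp = h := by
    show _ ≫ inv _ ≫ _ = _
    erw [← coprodSpec_inr, Category.assoc, IsIso.hom_inv_id_assoc, coprod.inr_desc]
  have hpe : ∀ p : PrimeSpectrum A, hp (PrimeSpectrum.comap (RingHom.fst A B[X]) p) = e p := fun p => congr($h1 p)
  have hph : ∀ p : PrimeSpectrum B[X], hp (PrimeSpectrum.comap (RingHom.snd A B[X]) p) = h p := fun p => congr($h2 p)
  have hsec : ∀ u : PrimeSpectrum B,
      h (PrimeSpectrum.comap (evalRingHom (0 : B)) u) = e (PrimeSpectrum.comap (algebraMap A B) u) :=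
    fun u => congr($heh u)
  have hsplit : ∀ (V : G.Opens) (y : Glue A B), (∀ p : PrimeSpectrum A, (incl A B y).1 ∉ p.asIdeal → e p ∈ V) →
      (∀ p : PrimeSpectrum B[X], (incl A B y).2 ∉ p.asIdeal → h p ∈ V) →
      ∀ w : PrimeSpectrum (A × B[X]), incl A B y ∉ w.asIdeal → hp w ∈ V := by
    intro V y he hh w hw
    rcases (Ideal.ideal_prod_prime _).1 w.isPrime with ⟨p, hp', hwp⟩ | ⟨p, hp', hwp⟩
    · have : w = PrimeSpectrum.comap (RingHom.fst A B[X]) ⟨p, hp'⟩ := PrimeSpectrum.ext (by rw [hwp]; ext; simp [Ideal.prod])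
      rw [this, hpe]
      exact he _ fun hm => hw (by rw [this]; exact hm)
    · have : w = PrimeSpectrum.comap (RingHom.snd A B[X]) ⟨p, hp'⟩ := PrimeSpectrum.ext (by rw [hwp]; ext; simp [Ideal.prod])
      rw [this, hph]
      exact hh _ fun hm => hw (by rw [this]; exact hm)
  obtain ⟨g, hg⟩ := exists_descend (incl A B) (pi1 A B) (pi2 A B) (incl_injective A B) (incl_range A B) hp
    (by
      rw [pi1, pi2, CommRingCat.ofHom_comp, CommRingCat.ofHom_comp, Spec.map_comp, Spec.map_comp,
        Category.assoc, Category.assoc, h1, h2, heh])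
    (fun z => by
      by_cases hz : rho A B r ∈ z.asIdeal
      · obtain ⟨p, rfl⟩ := exists_comap_fst A B r z hz
        obtain ⟨_, ⟨V, hV, rfl⟩, hpV, -⟩ := G.isBasis_affineOpens.exists_subset_of_mem_open
          (Set.mem_univ (e p)) isOpen_univ
        obtain ⟨_, ⟨a, rfl⟩, hpa, ha⟩ := PrimeSpectrum.isTopologicalBasis_basic_opens.exists_subset_of_mem_open
          (show p ∈ e ⁻¹' (V : Set G) from hpV) (V.2.preimage e.continuous)
        obtain ⟨J, hJ⟩ := (PrimeSpectrum.isClosed_iff_zeroLocus_ideal _).1
          ((V.2.preimage h.continuous).isClosed_compl)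
        have hJ' : ∀ w : PrimeSpectrum B[X], h w ∉ V ↔ w ∈ PrimeSpectrum.zeroLocus (J : Set B[X]) :=
          fun w => Set.ext_iff.1 hJ w
        have hrad : algebraMap A B a ∈ (J.map (evalRingHom (0 : B))).radical := by
          rw [Ideal.radical_eq_sInf]
          refine Ideal.mem_sInf.2 fun {P} ⟨hP, hPp⟩ => ?_
          by_contra hna
          have hu : h (PrimeSpectrum.comap (evalRingHom (0 : B)) ⟨P, hPp⟩) ∉ V :=
            (hJ' _).2 (Ideal.map_le_iff_le_comap.1 hP)
          exact hu (by rw [hsec]; exact ha hna)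
        obtain ⟨k, hk⟩ := hrad
        obtain ⟨j, hj, hjk⟩ := (Ideal.mem_map_iff_of_surjective (evalRingHom (0 : B))
          (fun b => ⟨C b, by simp⟩)).1 hk
        rw [coe_evalRingHom] at hjk
        refine ⟨gmk A B (a ^ (k + 1)) (j * C (algebraMap A B a)) (by simp [hjk, pow_succ]), V, ?_, hV,
          hsplit V _ (fun q hq => ha (fun hm => hq (q.asIdeal.pow_mem_of_mem hm _ (by omega))))
            (fun q hq => ?_)⟩
        · exact fun hm => hpa (p.isPrime.mem_of_pow_mem _ hm)
        · by_contra hn
          have hq' : q ∈ PrimeSpectrum.zeroLocus (J : Set B[X]) := (hJ' q).1 hn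
          exact hq (q.asIdeal.mul_mem_right _ (hq' hj))
      · obtain ⟨w, rfl⟩ := exists_comap_snd A B r z hz
        obtain ⟨_, ⟨V, hV, rfl⟩, hwV, -⟩ := G.isBasis_affineOpens.exists_subset_of_mem_open
          (Set.mem_univ (h w)) isOpen_univ
        obtain ⟨_, ⟨j, rfl⟩, hwj, hj⟩ := PrimeSpectrum.isTopologicalBasis_basic_opens.exists_subset_of_mem_open
          (show w ∈ h ⁻¹' (V : Set G) from hwV) (V.2.preimage h.continuous)
        obtain ⟨m, α, hα⟩ := IsLocalization.Away.surj r (j.eval 0)
        refine ⟨gmk A B (r * α) (j * C (algebraMap A B r) ^ (m + 1)) (by simp [← hα, pow_succ]; ring), V, ?_, hV,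
          hsplit V _ (fun q hq => ?_) (fun q hq => hj fun hm => hq (q.asIdeal.mul_mem_right _ hm))⟩
        · intro hm
          rcases w.isPrime.mem_or_mem (show j * C (algebraMap A B r) ^ (m + 1) ∈ w.asIdeal from hm) with h1 | h1
          · exact hwj h1
          · exact w.isPrime.ne_top (Ideal.eq_top_of_isUnit_mem _ h1
              (((IsLocalization.Away.algebraMap_isUnit r).map C).pow _))
        · have hr : r ∉ q.asIdeal := fun hm => hq (q.asIdeal.mul_mem_right _ hm)
          obtain ⟨u, rfl⟩ : ∃ u, PrimeSpectrum.comap (algebraMap A B) u = q := by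
            have := PrimeSpectrum.localization_away_comap_range B r
            exact (this ▸ hr : q ∈ Set.range (PrimeSpectrum.comap (algebraMap A B)))
          rw [← hsec]
          refine hj fun hm => hq ?_
          show algebraMap A B (r * α) ∈ u.asIdeal
          rw [map_mul, ← hα]
          exact u.asIdeal.mul_mem_left _ (u.asIdeal.mul_mem_right _ hm))
  refine ⟨g, ?_, ?_⟩
  · rw [CommRingCat.ofHom_comp, Spec.map_comp, Category.assoc, hg, h1]
  · rw [CommRingCat.ofHom_comp, Spec.map_comp, Category.assoc, hg, h2]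

/-- the stages -/
noncomputable def stages : ULift.{u} ℕ ⥤ CommRingCat.{u} where
  obj _ := CommRingCat.of A[X]
  map {i j} _ := CommRingCat.ofHom (scale (r ^ (j.down - i.down)))
  map_id i := by
    refine CommRingCat.hom_ext (Polynomial.ringHom_ext (fun a => ?_) ?_) <;> simp [scale]
  map_comp {i j k} f g := by
    have h1 : i.down ≤ j.down := (leOfHom f : i ≤ j)
    have h2 : j.down ≤ k.down := (leOfHom g : j ≤ k)
    refine CommRingCat.hom_ext (Polynomial.ringHom_ext (fun a => ?_) ?_)
    · simp [scale]
    · show scale (r ^ (k.down - i.down)) X = scale (r ^ (k.down - j.down)) (scale (r ^ (j.down - i.down)) X)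
      rw [scale_X, scale_X, map_mul, scale_C, scale_X, ← mul_assoc, ← C_mul, ← pow_add]
      congr 3
      omega

/-- the inverse of `r` -/
noncomputable def rinv : B := ((IsLocalization.Away.algebraMap_isUnit (S := B) r).unit⁻¹ : Bˣ)

theorem rinv_mul : rinv A B r * algebraMap A B r = 1 := IsUnit.val_inv_mul _

/-- a stage into the glued ring -/
noncomputable def leg (n : ℕ) : A[X] →+* Glue A B :=
  ((evalRingHom (0 : A)).prod ((scale (rinv A B r ^ n)).comp (mapRingHom (algebraMap A B)))).codRestrict _
    (fun p => by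
      show algebraMap A B (p.eval 0) = ((scale _) (p.map (algebraMap A B))).eval 0
      rw [← coeff_zero_eq_eval_zero, ← coeff_zero_eq_eval_zero, coeff_scale, coeff_map, pow_zero, one_mul])

/-- the cocone -/
noncomputable def stagesCocone : Cocone (stages A r) where
  pt := CommRingCat.of (Glue A B)
  ι :=
    { app := fun n => CommRingCat.ofHom (leg A B r n.down)
      naturality := fun i j f => by
        refine CommRingCat.hom_ext (Polynomial.ringHom_ext (fun a => ?_) ?_)
        · apply Subtype.ext; simp [stages, leg, scale_C]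
        · apply Subtype.ext
          have hij : i.down ≤ j.down := (leOfHom f : i ≤ j)
          have e : algebraMap A B r ^ (j.down - i.down) * rinv A B r ^ j.down = rinv A B r ^ i.down := by
            conv_lhs => rw [← Nat.sub_add_cancel hij, pow_add, Nat.add_sub_cancel, ← mul_assoc, ← mul_pow,
              mul_comm (algebraMap A B r), rinv_mul, one_pow, one_mul]
          refine Prod.ext (by simp [stages, leg, scale_X, scale_C]) ?_
          show scale (rinv A B r ^ j.down) ((scale (r ^ (j.down - i.down)) X).map (algebraMap A B)) =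
            scale (rinv A B r ^ i.down) ((X : A[X]).map (algebraMap A B))
          rw [scale_X, Polynomial.map_mul, map_C, map_X, map_mul, scale_C, scale_X, scale_X, ← mul_assoc, ← C_mul,
            map_pow, e] }

/-- the glued ring is the colimit -/
theorem isColimit_stages : Nonempty (IsColimit (stagesCocone A B r)) := by
  haveI : PreservesColimit (stages A r) (forget CommRingCat.{u}) := inferInstance
  haveI := reflectsColimit_of_reflectsIsomorphisms (stages A r) (forget CommRingCat.{u})
  refine ⟨isColimitOfReflects (forget CommRingCat.{u})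
    (Types.FilteredColimit.isColimitOf' _ _ (fun x => ?_) (fun i x y h => ?_))⟩
  · let z : Glue A B := x
    let q := (incl A B z).2
    let a := (incl A B z).1
    obtain ⟨⟨b, hb⟩, hc⟩ := IsLocalization.exist_integer_multiples (Submonoid.powers r) (Finset.range (q.natDegree + 1)) q.coeff
    obtain ⟨M, rfl⟩ := hb
    have hc' : ∀ k, ∃ a : A, algebraMap A B a = algebraMap A B r ^ M * q.coeff k := by
      intro k
      by_cases hk : k ∈ Finset.range (q.natDegree + 1)
      · obtain ⟨a, ha⟩ := hc k hk
        exact ⟨a, by rw [ha, Algebra.smul_def, map_pow]⟩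
      · exact ⟨0, by rw [q.coeff_eq_zero_of_natDegree_lt (by simpa using hk)]; simp⟩
    choose c hc using hc'
    let p : A[X] := C a + ∑ k ∈ Finset.Icc 1 q.natDegree, C (c k * r ^ (M * (k - 1))) * X ^ k
    refine ⟨⟨M⟩, p, ?_⟩
    have hp0 : p.eval 0 = a := by
      simp only [p, eval_add, eval_C, eval_finsetSum]
      rw [Finset.sum_eq_zero, add_zero]
      intro k hk
      simp [zero_pow (show k ≠ 0 by have := (Finset.mem_Icc.1 hk).1; omega)]
    apply incl_injective A B
    refine Prod.ext ?_ ?_
    · exact hp0.symm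
    · show q = scale (rinv A B r ^ M) (p.map (algebraMap A B))
      ext k
      rw [coeff_scale, coeff_map]
      rcases Nat.eq_zero_or_pos k with rfl | hk
      · rw [pow_zero, one_mul, coeff_zero_eq_eval_zero, coeff_zero_eq_eval_zero, hp0]
        exact (glue_cond A B z).symm
      · have hp : p.coeff k = if k ≤ q.natDegree then c k * r ^ (M * (k - 1)) else 0 := by
          simp only [p, coeff_add, coeff_C, hk.ne', if_false, zero_add, finsetSum_coeff, coeff_C_mul_X_pow,
            Finset.sum_ite_eq, Finset.mem_Icc, show 1 ≤ k from hk, true_and]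
        rw [hp]
        split_ifs with hkd
        · rw [map_mul, map_pow, hc, ← pow_mul, mul_left_comm, mul_comm M (k - 1)]
          have : rinv A B r ^ (M * k) * (algebraMap A B r ^ M * algebraMap A B r ^ ((k - 1) * M)) = 1 := by
            rw [← pow_add, show M + (k - 1) * M = M * k by
              obtain ⟨t, rfl⟩ := Nat.exists_eq_add_of_le hk
              simp; ring, ← mul_pow, rinv_mul, one_pow]
          linear_combination (q.coeff k) * this.symm
        · rw [q.coeff_eq_zero_of_natDegree_lt (by omega)]; simp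
  · let x' : A[X] := x
    let y' : A[X] := y
    have h' : leg A B r i.down x' = leg A B r i.down y' := h
    have hk : ∀ k, algebraMap A B (x'.coeff k) = algebraMap A B (y'.coeff k) := fun k => by
      have := congrArg (fun z => ((incl A B z).2).coeff k) h'
      change (scale _ (x'.map _)).coeff k = (scale _ (y'.map _)).coeff k at this
      rw [coeff_scale, coeff_scale, coeff_map, coeff_map] at this
      have hu : IsUnit ((rinv A B r ^ i.down) ^ k) := ((Units.isUnit _).pow _).pow _
      exact hu.mul_left_cancel this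
    have h0 : x'.coeff 0 = y'.coeff 0 := by
      have := congrArg (fun z => (incl A B z).1) h'
      simpa [coeff_zero_eq_eval_zero, leg, incl] using this
    choose L hL using fun k => IsLocalization.Away.exists_of_eq r (hk k)
    let S := Finset.range (max x'.natDegree y'.natDegree + 1)
    refine ⟨⟨i.down + S.sup L⟩, homOfLE (show i.down ≤ i.down + S.sup L from Nat.le_add_right _ _), ?_⟩
    show scale (r ^ (i.down + S.sup L - i.down)) x' = scale (r ^ (i.down + S.sup L - i.down)) y'
    ext k
    rw [coeff_scale, coeff_scale, Nat.add_sub_cancel_left]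
    rcases Nat.eq_zero_or_pos k with rfl | hk0
    · rw [h0]
    · by_cases hkS : k ∈ S
      · obtain ⟨t, ht⟩ := Nat.exists_eq_add_of_le ((Finset.le_sup (f := L) hkS).trans (Nat.le_mul_of_pos_right _ hk0))
        rw [← pow_mul, ht, pow_add, mul_comm (r ^ L k), mul_assoc, mul_assoc, hL]
      · have : max x'.natDegree y'.natDegree < k := by simpa [S] using hkS
        rw [x'.coeff_eq_zero_of_natDegree_lt (by omega), y'.coeff_eq_zero_of_natDegree_lt (by omega)]

include r heh in
/-- Quillen's lemma -/
theorem exists_stage {R : Type u} [CommRing R] [Algebra R A] [Algebra R B] [IsScalarTower R A B]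
    (f : G ⟶ Spec (CommRingCat.of R)) [LocallyOfFinitePresentation f]
    (he : e ≫ f = Spec.map (CommRingCat.ofHom (algebraMap R A)))
    (hh : h ≫ f = Spec.map (CommRingCat.ofHom (algebraMap R B[X]))) :
    ∃ (N : ℕ) (g : Spec (CommRingCat.of A[X]) ⟶ G),
      g ≫ f = Spec.map (CommRingCat.ofHom (algebraMap R A[X])) ∧
      Spec.map (CommRingCat.ofHom (mapRingHom (algebraMap A B))) ≫ g =
        Spec.map (CommRingCat.ofHom (scale (algebraMap A B r ^ N))) ≫ h := by
  haveI := surjective_incl A B r
  haveI := std_of_injective (incl A B) (incl_injective A B)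
  obtain ⟨a, ha1, ha2⟩ := exists_glued A B r e h heh
  obtain ⟨hc⟩ := isColimit_stages A B r
  let D : (ULift.{u} ℕ)ᵒᵖ ⥤ Scheme.{u} := (stages A r).op ⋙ Scheme.Spec
  let c : Cone D := Scheme.Spec.mapCone (stagesCocone A B r).op
  let t : D ⟶ (Functor.const (ULift.{u} ℕ)ᵒᵖ).obj (Spec (CommRingCat.of R)) :=
    { app := fun n => Spec.map (CommRingCat.ofHom (algebraMap R A[X]))
      naturality := fun i j φ => by
        show Spec.map ((stages A r).map φ.unop) ≫ _ = _ ≫ 𝟙 _
        rw [Category.comp_id, ← Spec.map_comp]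
        congr 1
        ext x
        show scale _ (algebraMap R A[X] x) = _
        rw [IsScalarTower.algebraMap_apply R A A[X], Polynomial.algebraMap_apply, Algebra.algebraMap_self_apply]
        exact scale_C _ _ }
  haveI : ∀ i, IsAffine (D.obj i) := fun i => inferInstanceAs (IsAffine (Spec _))
  haveI : ∀ {i j} (φ : i ⟶ j), IsAffineHom (D.map φ) := fun φ => isAffineHom_of_isAffine _
  haveI : ∀ i, CompactSpace (D.obj i) := fun i => inferInstanceAs (CompactSpace (PrimeSpectrum A[X]))
  haveI : ∀ i, QuasiSeparatedSpace (D.obj i) := fun i => inferInstanceAs (QuasiSeparatedSpace (Spec _))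
  have hat : c.π ≫ t = (Functor.const _).map (a ≫ f) := by
    ext n : 2
    apply cancel_of_surjective (Spec.map (CommRingCat.ofHom (incl A B)))
    rw [← cancel_epi (coprodSpec A B[X])]
    have key : ∀ {K : Type u} [CommRing K] (π : A × B[X] →+* K)
        (z : Spec (CommRingCat.of K) ⟶ G),
        Spec.map (CommRingCat.ofHom (π.comp (incl A B))) ≫ a = z →
        z ≫ f = Spec.map (CommRingCat.ofHom (((π.comp (incl A B)).comp (leg A B r n.unop.down)).comp (algebraMap R A[X]))) →
        Spec.map (CommRingCat.ofHom π) ≫ Spec.map (CommRingCat.ofHom (incl A B)) ≫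
          Spec.map (CommRingCat.ofHom (leg A B r n.unop.down)) ≫ Spec.map (CommRingCat.ofHom (algebraMap R A[X])) =
        Spec.map (CommRingCat.ofHom π) ≫ Spec.map (CommRingCat.ofHom (incl A B)) ≫ a ≫ f := by
      intro K _ π z h₁ h₂
      rw [← h₁, CommRingCat.ofHom_comp, Spec.map_comp, Category.assoc, Category.assoc] at h₂
      rw [h₂]
      simp only [← Spec.map_comp, ← CommRingCat.ofHom_comp]
    apply coprod.hom_ext
    · erw [coprodSpec_inl_assoc, coprodSpec_inl_assoc]
      refine key _ e ha1 (he.trans ?_)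
      congr 2
      ext x
      simp [leg, incl, IsScalarTower.algebraMap_apply R A A[X]]
    · erw [coprodSpec_inr_assoc, coprodSpec_inr_assoc]
      refine key _ h ha2 (hh.trans ?_)
      congr 2
      ext x
      simp [leg, incl, scale_C, IsScalarTower.algebraMap_apply R A A[X], IsScalarTower.algebraMap_apply R B B[X],
        ← IsScalarTower.algebraMap_apply R A B]
  obtain ⟨N, g, hg, hgf⟩ := Scheme.exists_π_app_comp_eq_of_locallyOfFinitePresentation D t f c
    (isLimitOfPreserves Scheme.Spec hc.op) a hat
  refine ⟨N.unop.down, g, hgf, ?_⟩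
  have e2 : mapRingHom (algebraMap A B) =
      (scale (algebraMap A B r ^ N.unop.down)).comp (((RingHom.snd A B[X]).comp (incl A B)).comp (leg A B r N.unop.down)) := by
    refine Polynomial.ringHom_ext (fun a => ?_) ?_
    · simp [leg, incl, scale_C]
    · simp [leg, incl, scale_X, scale_C, ← mul_assoc, ← C_mul, ← mul_pow, rinv_mul, mul_comm (algebraMap A B r)]
  rw [e2, CommRingCat.ofHom_comp, CommRingCat.ofHom_comp, Spec.map_comp, Spec.map_comp, Category.assoc,
    Category.assoc, ← ha2]
  exact congrArg (fun z => _ ≫ _ ≫ z) hg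

end Groth.Agent.QuillenPts
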