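import Groth.Agent.QuillenPts.Extend
import Mathlib

/-!
# Splitting a point over a Zariski covering of two opens
-/

set_option autoImplicit false

universe u

open CategoryTheory Limits MonoidalCategory CartesianMonoidalCategory MonObj GrpObj AlgebraicGeometry Polynomial

namespace Groth.Agent.QuillenPts

variable {R : Type u} [CommRing R]

/-- the test object of an algebra -/
noncomputable abbrev pt (R K : Type u) [CommRing R] [CommRing K] [Algebra R K] : Over (Spec (CommRingCat.of R)) :=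
  Over.mk (Spec.map (CommRingCat.ofHom (algebraMap R K)))

/-- the map of test objects -/
noncomputable def mor {K L : Type u} [CommRing K] [CommRing L] [Algebra R K] [Algebra R L] (ψ : K →ₐ[R] L) :
    pt R L ⟶ pt R K :=
  Over.homMk (Spec.map (CommRingCat.ofHom ψ.toRingHom)) (by
    show Spec.map _ ≫ Spec.map _ = Spec.map _
    rw [← Spec.map_comp, ← CommRingCat.ofHom_comp]
    congr 2
    exact ψ.comp_algebraMap)

theorem mor_comp {K L M : Type u} [CommRing K] [CommRing L] [CommRing M] [Algebra R K] [Algebra R L] [Algebra R M]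
    (ψ : K →ₐ[R] L) (φ : L →ₐ[R] M) : mor (φ.comp ψ) = mor φ ≫ mor ψ := by
  refine Over.OverMorphism.ext ?_
  show Spec.map _ = Spec.map _ ≫ Spec.map _
  rw [← Spec.map_comp]
  rfl

theorem mor_id (K : Type u) [CommRing K] [Algebra R K] : mor (AlgHom.id R K) = 𝟙 _ :=
  Over.OverMorphism.ext (Spec.map_id _)

theorem eq_mor {K L : Type u} [CommRing K] [CommRing L] [Algebra R K] [Algebra R L] (ψ : K →ₐ[R] L)
    (w : pt R L ⟶ pt R K) (hw : w.left = Spec.map (CommRingCat.ofHom ψ.toRingHom)) : w = mor ψ :=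
  Over.OverMorphism.ext hw

/-- evaluation of a polynomial algebra -/
noncomputable def sub {K L : Type u} [CommRing K] [CommRing L] [Algebra R K] [Algebra R L] (φ : K →ₐ[R] L) (c : L) :
    K[X] →ₐ[R] L :=
  { eval₂RingHom φ.toRingHom c with
    commutes' := fun x => by simp [IsScalarTower.algebraMap_apply R K K[X]] }

@[simp] theorem sub_C {K L : Type u} [CommRing K] [CommRing L] [Algebra R K] [Algebra R L] (φ : K →ₐ[R] L) (c : L)
    (a : K) : sub φ c (C a) = φ a := eval₂_C _ _

@[simp] theorem sub_X {K L : Type u} [CommRing K] [CommRing L] [Algebra R K] [Algebra R L] (φ : K →ₐ[R] L) (c : L) :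
    sub φ c X = c := eval₂_X _ _

theorem algHom_ext {K L : Type u} [CommRing K] [CommRing L] [Algebra R K] [Algebra R L] {φ ψ : K[X] →ₐ[R] L}
    (hC : ∀ a, φ (C a) = ψ (C a)) (hX : φ X = ψ X) : φ = ψ :=
  AlgHom.coe_ringHom_injective (Polynomial.ringHom_ext hC hX)

/-- constants -/
noncomputable def cst (K : Type u) [CommRing K] [Algebra R K] : K →ₐ[R] K[X] := IsScalarTower.toAlgHom R K K[X]

@[simp] theorem cst_apply (K : Type u) [CommRing K] [Algebra R K] (a : K) : cst (R := R) K a = C a := rfl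

/-- functoriality of polynomial algebras -/
noncomputable def pmap {K L : Type u} [CommRing K] [CommRing L] [Algebra R K] [Algebra R L] (φ : K →ₐ[R] L) :
    K[X] →ₐ[R] L[X] := sub ((cst L).comp φ) X

theorem away_polynomial {A B : Type u} [CommRing A] [CommRing B] [Algebra A B] (r : A) [IsLocalization.Away r B] :
    letI := (mapRingHom (algebraMap A B)).toAlgebra
    IsLocalization.Away (C r : A[X]) B[X] := by
  letI := (mapRingHom (algebraMap A B)).toAlgebra
  have h := Polynomial.isLocalization (Submonoid.powers r) B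
  rw [Submonoid.map_powers] at h
  exact h

variable {G : Over (Spec (CommRingCat.of R))} [GrpObj G] [LocallyOfFinitePresentation G.hom]

/-- Quillen's lemma for group points -/
theorem exists_stage_grp {A B : Type u} [CommRing A] [CommRing B] [Algebra R A] [Algebra R B] [Algebra A B]
    [IsScalarTower R A B] (r : R) [IsLocalization.Away (algebraMap R A r) B] (h : pt R B[X] ⟶ G)
    (hh : mor (sub (AlgHom.id R B) 0) ≫ h = 1) :
    ∃ (N : ℕ) (g : pt R A[X] ⟶ G), mor (pmap (IsScalarTower.toAlgHom R A B)) ≫ g =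
      mor (sub (cst B) (C (algebraMap R B (r ^ N)) * X)) ≫ h := by
  have he : mor (IsScalarTower.toAlgHom R A B) ≫ (1 : pt R A ⟶ G) = 1 := MonObj.comp_one _
  obtain ⟨N, g, hg, hgB⟩ := exists_stage A B (algebraMap R A r) (1 : pt R A ⟶ G).left h.left (by
    have e := congrArg CommaMorphism.left (hh.trans he.symm)
    refine Eq.trans ?_ e
    show _ = Spec.map _ ≫ h.left
    congr 2) G.hom (Over.w _) (Over.w _)
  refine ⟨N, Over.homMk g hg, Over.OverMorphism.ext ?_⟩
  show Spec.map _ ≫ g = Spec.map _ ≫ h.left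
  refine Eq.trans (congrArg (· ≫ g) ?_) (hgB.trans (congrArg (· ≫ h.left) ?_))
  · congr 2
  · congr 2
    refine Polynomial.ringHom_ext (fun a => ?_) ?_
    · simp [scale_C]
    · simp [scale_X, ← IsScalarTower.algebraMap_apply R A B]

variable {A A' B : Type u} [CommRing A] [CommRing A'] [CommRing B] [Algebra R A] [Algebra R A'] [Algebra R B]
  [Algebra A B] [Algebra A' B] [IsScalarTower R A B] [IsScalarTower R A' B]

/-- correct the value at the origin -/
theorem exists_normalized (g₀ : pt R A[X] ⟶ G) (gB : pt R B[X] ⟶ G)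
    (hg : mor (pmap (IsScalarTower.toAlgHom R A B)) ≫ g₀ = gB)
    (h0 : mor (sub (AlgHom.id R B) 0) ≫ gB = 1) :
    ∃ g₁ : pt R A[X] ⟶ G, mor (sub (AlgHom.id R A) 0) ≫ g₁ = 1 ∧
      mor (pmap (IsScalarTower.toAlgHom R A B)) ≫ g₁ = gB := by
  let v := mor (sub (AlgHom.id R A) 0) ≫ g₀
  refine ⟨g₀ * (mor (cst A) ≫ v)⁻¹, ?_, ?_⟩
  · rw [comp_mul, GrpObj.comp_inv, ← Category.assoc, ← mor_comp,
      show (sub (AlgHom.id R A) 0).comp (cst A) = AlgHom.id R A from AlgHom.ext fun a => by simp,
      mor_id, Category.id_comp, mul_inv_cancel]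
  · have e : ((pmap (IsScalarTower.toAlgHom R A B)).comp (cst A)).comp (sub (AlgHom.id R A) 0) =
        ((cst B).comp (sub (AlgHom.id R B) 0)).comp (pmap (IsScalarTower.toAlgHom R A B)) :=
      algHom_ext (fun a => by simp [pmap]) (by simp [pmap])
    rw [comp_mul, GrpObj.comp_inv, hg, ← Category.assoc, ← Category.assoc, ← mor_comp, ← mor_comp, e, mor_comp,
      mor_comp, Category.assoc, Category.assoc, hg, h0, MonObj.comp_one, inv_one, _root_.mul_one]

theorem away_right (r r' : R) [IsLocalization.Away r A] [IsLocalization.Away (r * r') B] :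
    IsLocalization.Away (algebraMap R A r') B := by
  have ha : ∀ x : R, algebraMap A B (algebraMap R A x) = algebraMap R B x := fun x =>
    (IsScalarTower.algebraMap_apply R A B x).symm
  have hu : IsUnit (algebraMap R B r * algebraMap R B r') := by
    rw [← map_mul]; exact IsLocalization.Away.algebraMap_isUnit (r * r')
  refine IsLocalization.Away.mk _ ?_ (fun z => ?_) (fun a b h => ?_)
  · rw [ha]; exact (IsUnit.mul_iff.1 hu).2
  · obtain ⟨n, α, hα⟩ := IsLocalization.Away.surj (r * r') z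
    obtain ⟨v, hv⟩ := (IsLocalization.Away.algebraMap_isUnit (S := A) r).pow n
    refine ⟨n, algebraMap R A α * ↑v⁻¹, ?_⟩
    have e : algebraMap A B ↑v * algebraMap A B ↑v⁻¹ = 1 := by rw [← map_mul, Units.mul_inv, map_one]
    rw [map_mul, ha, ha, ← hα, map_mul, mul_pow]
    rw [hv, map_pow, ha] at e
    linear_combination (-(z * algebraMap R B r' ^ n)) * e
  · obtain ⟨m, α, hα⟩ := IsLocalization.Away.surj r (a - b)
    have h0 : algebraMap R B α = 0 := by
      rw [← ha, ← hα, map_mul, map_sub, h, sub_self, zero_mul]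
    obtain ⟨n, hn⟩ := IsLocalization.Away.exists_of_eq (r * r') (h0.trans (map_zero _).symm)
    rw [mul_zero] at hn
    refine ⟨n, sub_eq_zero.1 ?_⟩
    rw [← mul_sub]
    refine (((IsLocalization.Away.algebraMap_isUnit (S := A) r).pow (m + n)).mul_left_eq_zero).1 ?_
    calc algebraMap R A r' ^ n * (a - b) * algebraMap R A r ^ (m + n)
        = algebraMap R A ((r * r') ^ n) * ((a - b) * algebraMap R A r ^ m) := by
          simp only [map_pow, map_mul]; ring
      _ = 0 := by rw [hα, ← map_mul, hn, map_zero]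

/-- scaling of the variable -/
noncomputable def tT (c : B[X]) : B[X] →ₐ[R] B[X] := sub (cst B) (c * X)

theorem ev0_tT (c : B[X]) (g : pt R B[X] ⟶ G) (hg : mor (sub (AlgHom.id R B) 0) ≫ g = 1) :
    mor (sub (AlgHom.id R B) 0) ≫ mor (tT c) ≫ g = 1 := by
  rw [← Category.assoc, ← mor_comp, show (sub (AlgHom.id R B) 0).comp (tT c) = sub (AlgHom.id R B) 0 from
    algHom_ext (fun a => by simp [tT]) (by simp [tT]), hg]

theorem toAlgHom_pmap {K L : Type u} [CommRing K] [CommRing L] [Algebra R K] [Algebra R L] (φ : K →ₐ[R] L)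
    [Algebra K[X] L[X]] [IsScalarTower R K[X] L[X]] (h : algebraMap K[X] L[X] = mapRingHom φ.toRingHom) :
    IsScalarTower.toAlgHom R K[X] L[X] = pmap φ :=
  algHom_ext
    (fun a => by show algebraMap K[X] L[X] (C a) = _; rw [h, pmap, sub_C, coe_mapRingHom, map_C]; rfl)
    (by show algebraMap K[X] L[X] X = _; rw [h, pmap, sub_X, coe_mapRingHom, map_X])

theorem tower_polynomial {K L : Type u} [CommRing K] [CommRing L] [Algebra R K] [Algebra R L] (φ : K →ₐ[R] L) :
    letI := (mapRingHom φ.toRingHom).toAlgebra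
    IsScalarTower R K[X] L[X] := by
  letI := (mapRingHom φ.toRingHom).toAlgebra
  refine IsScalarTower.of_algebraMap_eq fun x => ?_
  show _ = mapRingHom φ.toRingHom (algebraMap R K[X] x)
  rw [IsScalarTower.algebraMap_apply R K K[X], IsScalarTower.algebraMap_apply R L L[X]]
  simp

theorem pmap_sub {K L : Type u} [CommRing K] [CommRing L] [Algebra R K] [Algebra R L] (φ : K →ₐ[R] L) (s : R) :
    φ.comp (sub (AlgHom.id R K) (algebraMap R K s)) = (sub (AlgHom.id R L) (algebraMap R L s)).comp (pmap φ) :=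
  algHom_ext (fun a => by simp [pmap]) (by simp [pmap])

/-- the first side -/
theorem exists_side (r : R) [IsLocalization.Away (algebraMap R A r) B] (g : pt R B[X] ⟶ G)
    (hg : mor (sub (AlgHom.id R B) 0) ≫ g = 1) :
    ∃ M : ℕ, ∀ s : R, ∃ g₂ : pt R A[X] ⟶ G,
      mor (pmap (IsScalarTower.toAlgHom R A B)) ≫ g₂ = mor (tT (algebraMap R B[X] (s * r ^ M))) ≫ g := by
  let φ := IsScalarTower.toAlgHom R A B
  letI : Algebra A[X] B[X] := (mapRingHom φ.toRingHom).toAlgebra
  haveI : IsScalarTower R A[X] B[X] := tower_polynomial φ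
  haveI : IsLocalization.Away (algebraMap R A[X] r) B[X] := by
    rw [IsScalarTower.algebraMap_apply R A A[X]]; exact away_polynomial (algebraMap R A r)
  obtain ⟨M, g2, hg2⟩ := exists_stage_grp (A := A[X]) (B := B[X]) r
    (mor (sub ((cst B[X]).comp (cst B)) (C (X : B[X]) * X)) ≫ g) (by
      rw [← Category.assoc, ← mor_comp,
        show (sub (AlgHom.id R B[X]) 0).comp (sub ((cst B[X]).comp (cst B)) (C (X : B[X]) * X)) =
          (cst B).comp (sub (AlgHom.id R B) 0) from algHom_ext (fun a => by simp) (by simp),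
        mor_comp, Category.assoc, hg, MonObj.comp_one])
  rw [toAlgHom_pmap φ rfl] at hg2
  refine ⟨M, fun s => ⟨mor (sub (AlgHom.id R A[X]) (algebraMap R A[X] s)) ≫ g2, ?_⟩⟩
  rw [← Category.assoc, ← mor_comp, pmap_sub, mor_comp, Category.assoc, hg2, ← Category.assoc, ← Category.assoc,
    ← mor_comp, ← mor_comp]
  congr 2
  refine algHom_ext (fun a => ?_) ?_
  · simp [tT]
  · simp only [AlgHom.comp_apply, sub_X, sub_C, tT, map_mul, AlgHom.id_apply, cst_apply]
    ring

/-- the second side -/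
theorem exists_side₂ (r : R) [IsLocalization.Away (algebraMap R A r) B] (g : pt R B[X] ⟶ G) :
    ∃ N : ℕ, ∀ y t : R, ∃ g₁ : pt R A[X] ⟶ G,
      mor (pmap (IsScalarTower.toAlgHom R A B)) ≫ g₁ =
        (mor (tT (algebraMap R B[X] (y + t * r ^ N))) ≫ g) * (mor (tT (algebraMap R B[X] y)) ≫ g)⁻¹ := by
  let φ := IsScalarTower.toAlgHom R A B
  letI : Algebra A[X] B[X] := (mapRingHom φ.toRingHom).toAlgebra
  haveI : IsScalarTower R A[X] B[X] := tower_polynomial φ
  haveI : IsLocalization.Away (algebraMap R A[X] r) B[X] := by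
    rw [IsScalarTower.algebraMap_apply R A A[X]]; exact away_polynomial (algebraMap R A r)
  let ψ := IsScalarTower.toAlgHom R A[X] B[X]
  letI : Algebra A[X][X] B[X][X] := (mapRingHom ψ.toRingHom).toAlgebra
  haveI : IsScalarTower R A[X][X] B[X][X] := tower_polynomial ψ
  haveI : IsLocalization.Away (algebraMap R A[X][X] r) B[X][X] := by
    rw [IsScalarTower.algebraMap_apply R A[X] A[X][X]]; exact away_polynomial (algebraMap R A[X] r)
  let c₃ : B →ₐ[R] B[X][X][X] := (cst B[X][X]).comp ((cst B[X]).comp (cst B))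
  let v₁ : B[X][X][X] := C (C (X : B[X])) * (C (X : B[X][X]) + X)
  let v₂ : B[X][X][X] := C (C (X : B[X])) * C (X : B[X][X])
  obtain ⟨N, g1, hg1⟩ := exists_stage_grp (A := A[X][X]) (B := B[X][X]) r
    ((mor (sub c₃ v₁) ≫ g) * (mor (sub c₃ v₂) ≫ g)⁻¹) (by
      rw [comp_mul, GrpObj.comp_inv, ← Category.assoc, ← Category.assoc, ← mor_comp, ← mor_comp]
      have e : (sub (AlgHom.id R B[X][X]) 0).comp (sub c₃ v₁) = (sub (AlgHom.id R B[X][X]) 0).comp (sub c₃ v₂) :=
        algHom_ext (fun a => by simp [c₃]) (by simp [v₁, v₂])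
      rw [e, mul_inv_cancel])
  rw [toAlgHom_pmap ψ rfl] at hg1
  refine ⟨N, fun y t => ⟨mor (sub (AlgHom.id R A[X]) (algebraMap R A[X] y)) ≫
    mor (sub (AlgHom.id R A[X][X]) (algebraMap R A[X][X] t)) ≫ g1, ?_⟩⟩
  rw [← Category.assoc, ← mor_comp, pmap_sub, mor_comp, Category.assoc,
    ← Category.assoc (mor (pmap (pmap φ))), ← mor_comp]
  rw [show pmap (pmap φ) = pmap ψ from congrArg pmap (toAlgHom_pmap φ rfl).symm,
    pmap_sub, mor_comp, Category.assoc, hg1]
  simp only [comp_mul, GrpObj.comp_inv]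
  simp only [← Category.assoc, ← mor_comp]
  congr 1
  · congr 2
    refine algHom_ext (fun a => ?_) ?_
    · simp [c₃, tT]
    · simp only [AlgHom.comp_apply, sub_X, sub_C, tT, v₁, map_mul, map_add, AlgHom.id_apply, cst_apply, AlgHom.commutes, map_pow]
      ring
  · congr 3
    refine algHom_ext (fun a => ?_) ?_
    · simp [c₃, tT]
    · simp only [AlgHom.comp_apply, sub_X, sub_C, tT, v₂, map_mul, AlgHom.id_apply, cst_apply, AlgHom.commutes]
      ring

/-- the splitting -/
theorem exists_mul (r r' : R) (hrr : Ideal.span ({r, r'} : Set R) = ⊤) [IsLocalization.Away r A]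
    [IsLocalization.Away r' A'] [IsLocalization.Away (r * r') B] (g : pt R B[X] ⟶ G)
    (hg : mor (sub (AlgHom.id R B) 0) ≫ g = 1) :
    ∃ (g₁ : pt R A[X] ⟶ G) (g₂ : pt R A'[X] ⟶ G), mor (sub (AlgHom.id R A) 0) ≫ g₁ = 1 ∧
      mor (sub (AlgHom.id R A') 0) ≫ g₂ = 1 ∧
      g = (mor (pmap (IsScalarTower.toAlgHom R A B)) ≫ g₁) * (mor (pmap (IsScalarTower.toAlgHom R A' B)) ≫ g₂) := by
  haveI : IsLocalization.Away (algebraMap R A r') B := away_right r r'
  haveI : IsLocalization.Away (algebraMap R A' r) B := by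
    haveI : IsLocalization.Away (r' * r) B := by rw [mul_comm]; infer_instance
    exact away_right r' r
  obtain ⟨M, hM⟩ := exists_side (A := A') r g hg
  obtain ⟨N, hN⟩ := exists_side₂ (A := A) r' g
  obtain ⟨a, b, hab⟩ := Ideal.mem_span_pair.1 (hrr ▸ Submodule.mem_top : (1 : R) ∈ Ideal.span ({r, r'} : Set R))
  obtain ⟨s, t, hst⟩ := (show IsCoprime r r' from ⟨a, b, hab⟩).pow (m := M) (n := N)
  obtain ⟨h₂, e₂⟩ := hM s
  obtain ⟨h₁, e₁⟩ := hN (s * r ^ M) t
  have hone : mor (tT (algebraMap R B[X] (s * r ^ M + t * r' ^ N))) ≫ g = g := by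
    rw [hst, map_one, show tT (R := R) (1 : B[X]) = AlgHom.id R B[X] from
      algHom_ext (fun a => by simp [tT]) (by simp [tT]), mor_id, Category.id_comp]
  rw [hone] at e₁
  obtain ⟨g₁, hg₁, hg₁'⟩ := exists_normalized (A := A) (B := B) h₁ _ e₁ (by
    rw [comp_mul, GrpObj.comp_inv, hg, ev0_tT _ g hg, inv_one, _root_.mul_one])
  obtain ⟨g₂, hg₂, hg₂'⟩ := exists_normalized (A := A') (B := B) h₂ _ e₂ (ev0_tT _ g hg)
  exact ⟨g₁, g₂, hg₁, hg₂, by rw [hg₁', hg₂', inv_mul_cancel_right]⟩

end Groth.Agent.QuillenPts
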